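import Cfsg.Agent.Lib.Spor.McLInvol.Data
import Cfsg.Agent.Lib.Spor.McLInvol.ClassData
import Cfsg.Agent.Lib.KnownA.MathieuOut.Main

/-!
The involutions of `M22`: one class of at least 1155 elements meeting every involution of a Sylow
subgroup of order 128, which is generated by involutions.
-/

set_option autoImplicit false
set_option maxRecDepth 100000

namespace CfsgLib.Spor.McLInvol

open Cfsg CfsgLib.Spor CfsgLib.MathieuOut

attribute [local irreducible] compP packL normP

/-- the code of an element of `M22` -/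
noncomputable def mCode (σ : Spor.M22) : ℕ := canon (σ : Equiv.Perm GolayPt)

theorem mCode_inj {σ τ : Spor.M22} (h : mCode σ = mCode τ) : σ = τ :=
  Subtype.ext (canon_injective h)

theorem compP_mCode (σ τ : Spor.M22) : compP (mCode σ) (mCode τ) = mCode (σ * τ) := by
  rw [mCode, mCode, mCode, Subgroup.coe_mul,
    canon_eq_normP ((rep_canon (σ : Equiv.Perm GolayPt)).mul (rep_canon (τ : Equiv.Perm GolayPt)))]
  rw [normP, compP]
  refine congrArg packL (List.map_congr_left fun i hi => ?_)
  rw [getP_packL _ _ (by simpa using hi)]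
  simp only [List.getElem_map, List.getElem_range]
  rw [(rep_canon (τ : Equiv.Perm GolayPt)) i (List.mem_range.1 hi),
    (rep_canon (σ : Equiv.Perm GolayPt)).get, Nat.mod_eq_of_lt (lt_trans (idx_lt _) (by norm_num))]

theorem mCode_one : mCode 1 = packL (List.range 24) := by
  rw [mCode, Subgroup.coe_one, canon_eq_normP rep_one]
  decide +kernel

/-- a normalised code of an element of `M22` -/
def okCode (a : ℕ) : Bool := inStabP [] [23, 0] a && Nat.beq (normP a) a

theorem exists_mCode {a : ℕ} (h : okCode a = true) : ∃ σ : Spor.M22, mCode σ = a := by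
  simp only [okCode, Bool.and_eq_true, Nat.beq_eq] at h
  obtain ⟨σ, hσ, hσa⟩ := exists_stab_rep (by decide) h.1
  exact ⟨⟨σ, stabG_M22 ▸ hσ⟩, (canon_eq_normP hσa).trans h.2⟩

theorem getP_mCode {σ : Spor.M22} {a : ℕ} (h : mCode σ = a) {i : ℕ} (hi : i < 24) :
    (σ : Equiv.Perm GolayPt) (pt i) = pt (getP a i) := by
  rw [← h, mCode, rep_canon (σ : Equiv.Perm GolayPt) i hi, pt_idx]

theorem codes_ok : okCode cz = true ∧ (conjGens.all okCode) = true ∧ (sylEls.all okCode) = true ∧
    (sylInv.all okCode) = true ∧ okCode czRoot = true ∧ okCode czMove = true ∧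
    okCode czMoved = true := by decide +kernel

/-- the inverse of a code -/
def invP (a : ℕ) : ℕ := packL ((List.range 24).map fun j => ((List.range 24).find? fun i =>
  Nat.beq (getP a i) j).getD 0)

theorem conjGens_inv : (conjGens.all fun g => okCode (invP g) &&
    Nat.beq (compP g (invP g)) (packL (List.range 24))) = true := by decide +kernel

/-- no entry repeats -/
def distinctB : List ℕ → Bool
  | [] => true
  | x :: r => (r.all fun y => !(Nat.beq x y)) && distinctB r

theorem nodup_of_distinctB : ∀ {l : List ℕ}, distinctB l = true → l.Nodup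
  | [], _ => List.nodup_nil
  | x :: r, h => by
    simp only [distinctB, Bool.and_eq_true, List.all_eq_true] at h
    exact List.nodup_cons.2 ⟨fun hm => by simpa using h.1 x hm, nodup_of_distinctB h.2⟩

/-- each further entry is the conjugate of its parent named by the tree -/
def stepsOK (all : List ℕ) : List (ℕ × ℕ) → List ℕ → ℕ → Bool
  | [], [], _ => true
  | (k, p) :: r, x :: xs, n =>
    Nat.blt p n && Nat.blt k conjGens.length &&
      Nat.beq x (compP (conjGens.getD k 0) (compP (all.getD p 0) (invP (conjGens.getD k 0)))) &&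
      stepsOK all r xs (n + 1)
  | _, _, _ => false

theorem classData_length : classData.length = 1155 := by decide +kernel

theorem classData_nodup : classData.Nodup := nodup_of_distinctB (by decide +kernel)

theorem classData_steps : classData.take 1 = [cz] ∧
    stepsOK classData classTree (classData.drop 1) 1 = true := by decide +kernel

theorem conj_of_steps (z : Spor.M22) :
    ∀ (r : List (ℕ × ℕ)) (xs pre : List ℕ), classData = pre ++ xs →
      stepsOK classData r xs pre.length = true →
      (∀ a ∈ pre, ∃ σ, IsConj z σ ∧ mCode σ = a) →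
      ∀ a ∈ classData, ∃ σ, IsConj z σ ∧ mCode σ = a
  | [], [], pre, he, _, hpre => by
    rw [List.append_nil] at he
    exact fun a ha => hpre a (he ▸ ha)
  | [], _ :: _, _, _, hs, _ => by simp [stepsOK] at hs
  | _ :: _, [], _, _, hs, _ => by simp [stepsOK] at hs
  | (k, p) :: r, x :: xs, pre, he, hs, hpre => by
    simp only [stepsOK, Bool.and_eq_true, Nat.blt_eq, Nat.beq_eq] at hs
    obtain ⟨⟨⟨hp, hk⟩, hx⟩, hrest⟩ := hs
    refine conj_of_steps z r xs (pre ++ [x]) (by rw [he, List.append_assoc, List.singleton_append])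
      (by rw [List.length_append, List.length_singleton]; exact hrest) fun a ha => ?_
    rcases List.mem_append.1 ha with ha | ha
    · exact hpre a ha
    rw [List.mem_singleton] at ha
    subst ha
    rw [List.getD_eq_getElem _ _ hk] at hx
    obtain ⟨g, hg⟩ := exists_mCode (List.all_eq_true.1 codes_ok.2.1 _ (List.getElem_mem hk))
    have h := List.all_eq_true.1 conjGens_inv _ (List.getElem_mem hk)
    simp only [Bool.and_eq_true, Nat.beq_eq] at h
    obtain ⟨g', hg'⟩ := exists_mCode h.1
    have hgg : g * g' = 1 := mCode_inj (by rw [← compP_mCode, hg, hg', h.2, mCode_one])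
    obtain ⟨σ, hσ, hσa⟩ : ∃ σ, IsConj z σ ∧ mCode σ = classData.getD p 0 := by
      rw [he, List.getD_append _ _ _ _ hp, List.getD_eq_getElem _ _ hp]
      exact hpre _ (List.getElem_mem hp)
    refine ⟨g * σ * g⁻¹, hσ.trans (isConj_iff.2 ⟨g, rfl⟩), ?_⟩
    rw [← eq_inv_of_mul_eq_one_right hgg, mul_assoc, ← compP_mCode, ← compP_mCode, hg, hg', hσa]
    exact hx.symm

theorem conj_of_classData {z : Spor.M22} (hz : mCode z = cz) {a : ℕ} (ha : a ∈ classData) :
    ∃ σ, IsConj z σ ∧ mCode σ = a := by
  refine conj_of_steps z classTree (classData.drop 1) [cz] ?_ classData_steps.2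
    (fun b hb => ⟨z, IsConj.refl z, by rw [hz, List.mem_singleton.1 hb]⟩) a ha
  rw [← classData_steps.1, List.take_append_drop]

theorem isConj_of_mem_classData {z σ : Spor.M22} (hz : mCode z = cz)
    (h : mCode σ ∈ classData) : IsConj z σ := by
  obtain ⟨τ, hτ, e⟩ := conj_of_classData hz h
  rwa [← mCode_inj e]

theorem card_centralizer_le {z : Spor.M22} (hz : mCode z = cz) :
    Nat.card (Subgroup.centralizer ({z} : Set Spor.M22)) ≤ 384 := by
  classical
  have hsub : (classData.toFinset : Set ℕ) ⊆
      mCode '' MulAction.orbit (ConjAct Spor.M22) z := by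
    intro a ha
    rw [List.coe_toFinset] at ha
    obtain ⟨τ, hτ, e⟩ := conj_of_classData hz ha
    exact ⟨τ, (ConjAct.mem_orbit_conjAct).2 hτ.symm, e⟩
  have h1 := Set.ncard_le_ncard hsub ((Set.toFinite _).image _)
  rw [Set.ncard_coe_finset, List.toFinset_card_of_nodup classData_nodup, classData_length,
    Set.ncard_image_of_injective _ fun _ _ => mCode_inj] at h1
  have h2 := Subgroup.card_mul_index (MulAction.stabilizer (ConjAct Spor.M22) z)
  rw [MulAction.index_stabilizer, ConjAct.stabilizer_eq_centralizer,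
    show Nat.card (ConjAct Spor.M22) = 443520 from natCard_M22] at h2
  have h3 : Nat.card (Subgroup.centralizer ({z} : Set Spor.M22)) * 1155 ≤ 384 * 1155 :=
    le_trans (Nat.mul_le_mul le_rfl h1) (le_trans h2.le (by norm_num))
  exact Nat.le_of_mul_le_mul_right h3 (by norm_num)

/-! ### A Sylow subgroup -/

theorem sylEls_props : sylEls.Nodup ∧ sylEls.length = 128 ∧ packL (List.range 24) ∈ sylEls ∧
    (sylInv.all fun i => sylEls.all fun e => sylEls.any (Nat.beq (compP i e))) = true ∧
    ((sylEls.zip sylWords).all fun p => (p.2.all fun k => Nat.blt k sylInv.length) &&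
      Nat.beq p.1 (p.2.foldr (fun k a => compP (sylInv.getD k cz) a) (packL (List.range 24)))) =
        true ∧ sylWords.length = 128 := by decide +kernel

/-- the subgroup generated by the listed involutions -/
def sylM : Subgroup Spor.M22 := Subgroup.closure {σ | mCode σ ∈ sylInv}

theorem mem_sylM {σ : Spor.M22} : σ ∈ sylM ↔ mCode σ ∈ sylEls := by
  obtain ⟨-, -, h1, hclos, hwords, hlen⟩ := sylEls_props
  constructor
  · intro h
    rw [sylM, ← Subgroup.mem_toSubmonoid, Subgroup.closure_toSubmonoid_of_finite] at h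
    induction h using Submonoid.closure_induction_left with
    | one => rw [mCode_one]; exact h1
    | mul_left i hi τ _ hτ =>
      have := List.all_eq_true.1 (List.all_eq_true.1 hclos _ hi) _ hτ
      rw [compP_mCode, List.any_eq_true] at this
      obtain ⟨e, he, hee⟩ := this
      rw [Nat.beq_eq] at hee
      exact hee ▸ he
  · intro h
    obtain ⟨k, hk, hke⟩ := List.getElem_of_mem h
    have hk' : k < sylWords.length := by rw [hlen]; have := sylEls_props.2.1; omega
    have hp := List.all_eq_true.1 hwords (sylEls[k], sylWords[k])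
      (by rw [List.mem_iff_getElem]; exact ⟨k, by rw [List.length_zip]; exact lt_min hk hk', List.getElem_zip⟩)
    simp only [Bool.and_eq_true, List.all_eq_true, Nat.blt_eq, Nat.beq_eq] at hp
    obtain ⟨hlt, he⟩ := hp
    suffices key : ∀ w : List ℕ, (∀ j ∈ w, j < sylInv.length) → ∃ τ ∈ sylM,
        mCode τ = w.foldr (fun k a => compP (sylInv.getD k cz) a) (packL (List.range 24)) by
      obtain ⟨τ, hτ, e⟩ := key _ hlt
      rw [← he] at e
      exact mCode_inj (e.trans hke) ▸ hτ
    intro w hw
    induction w with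
    | nil => exact ⟨1, one_mem _, mCode_one⟩
    | cons j w ih =>
      obtain ⟨τ, hτ, e⟩ := ih fun x hx => hw x (List.mem_cons_of_mem _ hx)
      have hj := hw j List.mem_cons_self
      obtain ⟨i, hi⟩ := exists_mCode (List.all_eq_true.1 codes_ok.2.2.2.1 _ (List.getElem_mem hj))
      refine ⟨i * τ, mul_mem (Subgroup.subset_closure ?_) hτ, ?_⟩
      · show mCode i ∈ sylInv
        rw [hi]; exact List.getElem_mem hj
      · rw [← compP_mCode, hi, e, List.foldr_cons, List.getD_eq_getElem _ _ hj]

theorem card_sylM : Nat.card sylM = 128 := by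
  classical
  obtain ⟨hnd, hlen, -⟩ := sylEls_props
  have hb : Function.Bijective fun σ : sylM =>
      (⟨mCode σ.1, List.mem_toFinset.2 (mem_sylM.1 σ.2)⟩ : sylEls.toFinset) := by
    refine ⟨fun σ τ e => Subtype.ext (mCode_inj (congrArg Subtype.val e)), ?_⟩
    rintro ⟨a, ha⟩
    obtain ⟨σ, rfl⟩ := exists_mCode (List.all_eq_true.1 codes_ok.2.2.1 _ (List.mem_toFinset.1 ha))
    exact ⟨⟨σ, mem_sylM.2 (List.mem_toFinset.1 ha)⟩, rfl⟩
  rw [Nat.card_congr (Equiv.ofBijective _ hb), Nat.card_eq_fintype_card, Fintype.card_coe,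
    List.toFinset_card_of_nodup hnd, hlen]

theorem invol_check : (sylEls.all fun e =>
    !(Nat.beq (compP e e) (packL (List.range 24))) || Nat.beq e (packL (List.range 24)) ||
      classData.any (Nat.beq e)) = true := by decide +kernel

theorem isConj_of_invol {z σ : Spor.M22} (hz : mCode z = cz) (hσ : σ ∈ sylM)
    (h2 : σ * σ = 1) (h1 : σ ≠ 1) : IsConj z σ := by
  have h := List.all_eq_true.1 invol_check _ (mem_sylM.1 hσ)
  simp only [Bool.or_eq_true, Bool.not_eq_true', List.any_eq_true, Nat.beq_eq] at h
  rcases h with (h | h) | ⟨e, he, hee⟩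
  · rw [compP_mCode, h2, mCode_one] at h
    simp at h
  · exact absurd (mCode_inj (h.trans mCode_one.symm)) h1
  · exact isConj_of_mem_classData hz (hee ▸ he)

theorem center_check : (sylEls.all fun e =>
    Nat.beq e (packL (List.range 24)) || Nat.beq e cz ||
      sylInv.any fun i => !(Nat.beq (compP e i) (compP i e))) = true ∧
    sylEls.contains cz = true ∧ (sylEls.all fun e => Nat.beq (compP e cz) (compP cz e)) = true := by
  decide +kernel

theorem mem_sylM_z {z : Spor.M22} (hz : mCode z = cz) :
    z ∈ sylM ∧ ∀ σ ∈ sylM, σ * z = z * σ := by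
  refine ⟨mem_sylM.2 (hz ▸ by simpa using center_check.2.1), fun σ hσ => mCode_inj ?_⟩
  have h := List.all_eq_true.1 center_check.2.2 _ (mem_sylM.1 hσ)
  rw [Nat.beq_eq, ← hz, compP_mCode, compP_mCode] at h
  exact h

theorem center_sylM {z σ : Spor.M22} (hz : mCode z = cz) (hσ : σ ∈ sylM)
    (hc : ∀ τ ∈ sylM, σ * τ = τ * σ) : σ = 1 ∨ σ = z := by
  have h := List.all_eq_true.1 center_check.1 _ (mem_sylM.1 hσ)
  simp only [Bool.or_eq_true, Bool.not_eq_true', List.any_eq_true, Nat.beq_eq] at h
  rcases h with (h | h) | ⟨i, hi, hne⟩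
  · exact Or.inl (mCode_inj (h.trans mCode_one.symm))
  · exact Or.inr (mCode_inj (h.trans hz.symm))
  · obtain ⟨τ, rfl⟩ := exists_mCode (List.all_eq_true.1 codes_ok.2.2.2.1 _ hi)
    rw [compP_mCode, compP_mCode, hc τ (Subgroup.subset_closure hi)] at hne
    simp at hne

theorem z_props {z : Spor.M22} (hz : mCode z = cz) : z * z = 1 ∧ z ≠ 1 := by
  have h : compP cz cz = packL (List.range 24) ∧ cz ≠ packL (List.range 24) := by decide +kernel
  exact ⟨mCode_inj (by rw [← compP_mCode, hz, h.1, mCode_one]),
    fun e => h.2 (by rw [← hz, e, mCode_one])⟩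

theorem exists_root {z : Spor.M22} (hz : mCode z = cz) : ∃ s : Spor.M22, s * s = z := by
  obtain ⟨s, hs⟩ := exists_mCode codes_ok.2.2.2.2.1
  refine ⟨s, mCode_inj ?_⟩
  rw [← compP_mCode, hs, hz]
  decide +kernel

theorem exists_move {z : Spor.M22} (hz : mCode z = cz) :
    ∃ e s : Spor.M22, e * z = z * e ∧ s ∈ sylM ∧ e * s * e⁻¹ ∉ sylM := by
  obtain ⟨e, he⟩ := exists_mCode codes_ok.2.2.2.2.2.1
  obtain ⟨s, hs⟩ := exists_mCode codes_ok.2.2.2.2.2.2
  have h : compP czMove cz = compP cz czMove ∧ sylEls.contains czMoved = true ∧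
      (sylEls.all fun a => !(Nat.beq (compP czMove czMoved) (compP a czMove))) = true := by
    decide +kernel
  refine ⟨e, s, mCode_inj (by rw [← compP_mCode, ← compP_mCode, he, hz, h.1]),
    mem_sylM.2 (hs ▸ by simpa using h.2.1), fun hm => ?_⟩
  have h2 := List.all_eq_true.1 h.2.2 _ (mem_sylM.1 hm)
  rw [← hs, ← he, compP_mCode, compP_mCode, inv_mul_cancel_right] at h2
  simp at h2

end CfsgLib.Spor.McLInvol
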