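import Cfsg.Agent.Lib.Spor.McLInvol.Cent
import Cfsg.Prelude.Def_Spor_Conway

/-!
One class of involutions in the McLaughlin group, and the identification of the model.
-/

set_option autoImplicit false
set_option maxRecDepth 100000

namespace CfsgLib.Spor.McLInvol

open Cfsg CfsgLib.Spor CfsgLib.Spor.Config
open CfsgLib.Spor.ShortPairs (v0)

/-- `M22` inside the model -/
noncomputable def mEmbH : Spor.M22 →* hMcL := mEmb.codRestrict hMcL fun σ => (mEmb_fix σ).1

theorem mEmbH_injective : Function.Injective mEmbH := fun σ τ h =>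
  mEmb_injective (congrArg Subtype.val h)

/-- the involution in the model -/
noncomputable def tH : hMcL := mEmbH zM

theorem orderOf_tH : orderOf tH = 2 :=
  orderOf_eq_prime (by rw [tH, pow_two, ← map_mul, (z_props zM_code).1, map_one])
    fun h => tInv_facts.2.2 (congrArg Subtype.val h)

theorem card_sylH : Nat.card (sylM.map mEmbH) = 128 := by
  rw [Subgroup.card_map_of_injective mEmbH_injective, card_sylM]

theorem factor_card : (Nat.card hMcL).factorization 2 = 7 := by
  rw [card_hMcL, show (898128000 : ℕ) = 2 ^ 7 * 7016625 by norm_num,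
    Nat.factorization_mul (by norm_num) (by norm_num), Finsupp.add_apply,
    Nat.factorization_pow_self Nat.prime_two, Nat.factorization_eq_zero_of_not_dvd (by norm_num)]

instance : Finite hMcL := Nat.finite_of_card_ne_zero (by rw [card_hMcL]; norm_num)

/-- the Sylow subgroup of the model -/
noncomputable def sylH : Sylow 2 hMcL :=
  Sylow.ofCard (sylM.map mEmbH) (by rw [card_sylH, factor_card]; norm_num)

theorem sylH_coe : (sylH : Subgroup hMcL) = sylM.map mEmbH := rfl

theorem isConj_tH {y : hMcL} (hy : orderOf y = 2) : IsConj tH y := by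
  haveI : Fact (Nat.Prime 2) := ⟨Nat.prime_two⟩
  have hp : IsPGroup 2 (Subgroup.zpowers y) :=
    IsPGroup.of_card (n := 1) (by rw [Nat.card_zpowers, hy, pow_one])
  obtain ⟨Q, hQ⟩ := hp.exists_le_sylow
  obtain ⟨c, hc⟩ := MulAction.exists_smul_eq hMcL Q sylH
  have hm : c * y * c⁻¹ ∈ (sylH : Subgroup hMcL) := by
    rw [← hc, Sylow.coe_subgroup_smul]
    exact ⟨y, hQ (Subgroup.mem_zpowers y), rfl⟩
  rw [sylH_coe] at hm
  obtain ⟨σ, hσ, hσe⟩ := hm
  have hy2 : y * y = 1 := by rw [← pow_two, ← hy]; exact pow_orderOf_eq_one y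
  have h2 : σ * σ = 1 := mEmbH_injective (by
    rw [map_mul, hσe, map_one]
    calc c * y * c⁻¹ * (c * y * c⁻¹) = c * (y * y) * c⁻¹ := by group
      _ = 1 := by rw [hy2]; group)
  have h1 : σ ≠ 1 := fun e => by
    rw [e, map_one] at hσe
    rw [conj_eq_one_iff.1 hσe.symm, orderOf_one] at hy
    exact absurd hy (by norm_num)
  exact (mEmbH.map_isConj (isConj_of_invol zM_code hσ h2 h1)).trans
    (hσe ▸ (isConj_iff.2 ⟨c, rfl⟩ : IsConj y (c * y * c⁻¹)).symm)

theorem mem_centT_iff (g : hMcL) :
    (g : Co0) ∈ centT ↔ g ∈ Subgroup.centralizer ({tH} : Set hMcL) := by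
  rw [mem_centT, Subgroup.mem_centralizer_singleton_iff]
  exact ⟨fun h => Subtype.ext h.2, fun h => ⟨g.2, congrArg Subtype.val h⟩⟩

/-- the centraliser in the model -/
noncomputable def centEquiv : Subgroup.centralizer ({tH} : Set hMcL) ≃* centT where
  toFun g := ⟨(g : hMcL), (mem_centT_iff g).2 g.2⟩
  invFun g := ⟨⟨g, (mem_centT.1 g.2).1⟩, (mem_centT_iff _).1 g.2⟩
  left_inv _ := rfl
  right_inv _ := rfl
  map_mul' _ _ := rfl

theorem equiv_mcl : Nonempty (hMcL ≃* Spor.McL) := by
  set u : leechLattice := Spor.leechU with hudef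
  set v : leechLattice := Spor.leechV with hvdef
  set w : leechLattice := -(v + u) with hwdef
  have hu : sqNorm (u : GolayPt → ℤ) = 32 := by rw [hudef]; decide +kernel
  have hw : sqNorm (w : GolayPt → ℤ) = 32 := by rw [hwdef, hvdef, hudef]; decide +kernel
  have huw : dotInt (u : GolayPt → ℤ) (w : GolayPt → ℤ) = -8 := by
    rw [hwdef, hvdef, hudef]; decide +kernel
  obtain ⟨g, h1, h2⟩ := McLConfig.exists_std hu hw huw
  obtain ⟨k, k1, k2⟩ := hMcL_map
  have hle : Spor.McL ≤ Co0 := fun x hx => hx.1.1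
  have he : Spor.McL.subgroupOf Co0 =
      MulAction.stabilizer Co0 u ⊓ MulAction.stabilizer Co0 w := by
    ext x
    simp only [Subgroup.mem_subgroupOf, Subgroup.mem_inf, MulAction.mem_stabilizer_iff]
    constructor
    · intro hx
      have e1 : x • v = v := hx.1.2
      have e2 : x • u = u := hx.2
      exact ⟨e2, by rw [hwdef, smul_neg_co0, coe_smul_add, e1, e2]⟩
    · rintro ⟨e2, e1⟩
      rw [hwdef, smul_neg_co0, coe_smul_add, e2, neg_inj] at e1
      exact ⟨⟨x.2, add_right_cancel e1⟩, e2⟩
  have hmap : (Spor.McL.subgroupOf Co0).map (MulAut.conj (k⁻¹ * g)).toMonoidHom = hMcL := by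
    rw [he]
    exact map_stab_conj (smul_eq_of_eq h1 k1) (smul_eq_of_eq h2 k2)
  exact ⟨(MulEquiv.subgroupCongr hmap.symm).trans
    (((Spor.McL.subgroupOf Co0).equivMapOfInjective _ (MulAut.conj (k⁻¹ * g)).injective).symm.trans
      (Subgroup.subgroupOfEquivOfLe hle))⟩

theorem mcl_involutions :
    (∀ x y : Spor.McL, orderOf x = 2 → orderOf y = 2 → IsConj x y) ∧
      ∃ t : Spor.McL, orderOf t = 2 ∧ Cfsg.IsNonsplitDoubleCover
        (Subgroup.centralizer ({t} : Set Spor.McL)) (alternatingGroup (Fin 8)) := by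
  obtain ⟨e⟩ := equiv_mcl
  refine ⟨fun x y hx hy => ?_, e tH, by rw [MulEquiv.orderOf_eq]; exact orderOf_tH, ?_⟩
  · have hs : ∀ z : Spor.McL, orderOf z = 2 → IsConj (e tH) z := fun z hz => by
      have h := e.toMonoidHom.map_isConj
        (isConj_tH (y := e.symm z) (by rw [MulEquiv.orderOf_eq]; exact hz))
      rwa [MulEquiv.coe_toMonoidHom, MulEquiv.apply_symm_apply] at h
    exact (hs x hx).symm.trans (hs y hy)
  · have hmap : (Subgroup.centralizer ({tH} : Set hMcL)).map e.toMonoidHom =
        Subgroup.centralizer ({e tH} : Set Spor.McL) := by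
      ext x
      rw [Subgroup.mem_map_equiv, Subgroup.mem_centralizer_singleton_iff,
        Subgroup.mem_centralizer_singleton_iff, ← e.injective.eq_iff]
      simp
    let E : centT ≃* Subgroup.centralizer ({e tH} : Set Spor.McL) :=
      centEquiv.symm.trans ((e.subgroupMap _).trans (MulEquiv.subgroupCongr hmap))
    obtain ⟨h1, ⟨q⟩, h3⟩ := isNonsplit_centT
    have hc : (Subgroup.center centT).map E.toMonoidHom = Subgroup.center _ := by
      ext x
      rw [Subgroup.mem_map_equiv, Subgroup.mem_center_iff, Subgroup.mem_center_iff]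
      exact ⟨fun h y => E.symm.injective (by rw [map_mul, map_mul, h]),
        fun h y => E.injective (by rw [map_mul, map_mul, E.apply_symm_apply, h])⟩
    refine ⟨?_, ⟨(QuotientGroup.congr _ _ E hc).symm.trans q⟩, fun L hL => ?_⟩
    · rw [← hc, Subgroup.card_map_of_injective (f := E.toMonoidHom) E.injective, h1]
    · refine h3 (L.comap E.toMonoidHom)
        (Subgroup.isComplement'_of_card_mul_and_disjoint ?_ ?_)
      · have hL' : Nat.card (L.comap E.toMonoidHom) = Nat.card L :=
          Nat.card_congr ⟨fun a => ⟨E a.1, a.2⟩, fun b => ⟨E.symm b.1, by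
            show E (E.symm b.1) ∈ L
            rw [E.apply_symm_apply]; exact b.2⟩,
            fun a => Subtype.ext (E.symm_apply_apply a.1),
            fun b => Subtype.ext (E.apply_symm_apply b.1)⟩
        rw [hL', Nat.card_congr E.toEquiv, ← hL.card_mul, ← hc,
          Subgroup.card_map_of_injective (f := E.toMonoidHom) E.injective]
      · rw [Subgroup.disjoint_def]
        intro a ha hb
        refine E.injective (Eq.trans ?_ (map_one E).symm)
        exact Subgroup.disjoint_def.1 hL.disjoint (hc ▸ Subgroup.mem_map_of_mem _ ha) hb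

end CfsgLib.Spor.McLInvol
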