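import Cfsg.Agent.Lib.Spor.McLInvol.Data

/-!
The alternating group of degree 8 on the 35 bisections of its points.
-/

set_option autoImplicit false
set_option maxRecDepth 100000

namespace CfsgLib.Spor.McLInvol

open CfsgLib.Spor.HSUnitary (RepL mem_of_slpL slpL chainL le_card_of_chainL equiv_closure_of_action)
open scoped Pointwise

/-- the first permutation -/
noncomputable def pA : Equiv.Perm (Fin 35) :=
  Equiv.ofBijective (fun i => Fin.ofNat 35 (permA.getD i 0)) (by decide +kernel)

/-- the second permutation -/
noncomputable def pB : Equiv.Perm (Fin 35) :=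
  Equiv.ofBijective (fun i => Fin.ofNat 35 (permB.getD i 0)) (by decide +kernel)

theorem pA_val (i : Fin 35) : (pA i : ℕ) = permA.getD i 0 :=
  Nat.mod_eq_of_lt (show permA.getD i 0 < 35 by revert i; decide +kernel)

theorem pB_val (i : Fin 35) : (pB i : ℕ) = permB.getD i 0 :=
  Nat.mod_eq_of_lt (show permB.getD i 0 < 35 by revert i; decide +kernel)

/-- the group generated by the two permutations -/
abbrev model : Subgroup (Equiv.Perm (Fin 35)) := Subgroup.closure {pA, pB}

theorem le_card_model : 20160 ≤ Nat.card model := by
  have hr := mem_of_slpL (H := model) permRows [permA, permB] (by decide +kernel) fun a ha => by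
    simp only [List.mem_cons, List.not_mem_nil, or_false] at ha
    rcases ha with rfl | rfl
    · exact ⟨pA, Subgroup.subset_closure (by simp), fun i => (pA_val i).symm⟩
    · exact ⟨pB, Subgroup.subset_closure (by simp), fun i => (pB_val i).symm⟩
  have hsub : (permLev.all fun l => l.2.all fun t =>
      decide (t = List.range 35) || decide (t = permA) || decide (t = permB) ||
        permRows.any fun e => decide (t = e.1)) = true := by decide +kernel
  refine le_trans (le_of_eq ?_) (le_card_of_chainL permLev (by decide +kernel) model fun l hl t ht => ?_)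
  · decide +kernel
  have h := List.all_eq_true.1 (List.all_eq_true.1 hsub l hl) t ht
  simp only [Bool.or_eq_true, decide_eq_true_eq, List.any_eq_true] at h
  rcases h with ((rfl | rfl) | rfl) | ⟨e, he, rfl⟩
  · exact ⟨1, Subgroup.one_mem _, RepL.one⟩
  · exact ⟨pA, Subgroup.subset_closure (by simp), fun i => (pA_val i).symm⟩
  · exact ⟨pB, Subgroup.subset_closure (by simp), fun i => (pB_val i).symm⟩
  · exact hr e he

/-- the permutation of eight points with given images -/
def eightFun (l : List ℕ) (i : Fin 8) : Fin 8 := Fin.ofNat 8 (l.getD i 0)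

/-- a bisection -/
def bisObj (i : Fin 35) : Finset (Finset (Fin 8)) :=
  ((bisList.getD i []).map fun q => (q.map (Fin.ofNat 8)).toFinset).toFinset

theorem bisObj_injective : Function.Injective bisObj := by
  have h : ∀ i j : Fin 35, bisObj i = bisObj j → i = j := by decide +kernel
  exact h

theorem bij_eightA : Function.Bijective (eightFun eightA) := by decide +kernel

theorem bij_eightB : Function.Bijective (eightFun eightB) := by decide +kernel

theorem bis_images : ∀ i : Fin 35,
    (bisObj i).image (fun s => s.image (eightFun eightA)) = bisObj (Fin.ofNat 35 (permA.getD i 0)) ∧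
    (bisObj i).image (fun s => s.image (eightFun eightB)) = bisObj (Fin.ofNat 35 (permB.getD i 0)) := by
  decide +kernel

theorem eight_sign : ∀ s : Equiv.Perm (Fin 8),
    (∀ i, s i = eightFun eightA i) ∨ (∀ i, s i = eightFun eightB i) → Equiv.Perm.sign s = 1 := by
  intro s h
  rcases h with h | h
  · have e : s = Equiv.ofBijective _ bij_eightA := Equiv.ext h
    rw [e]; decide +kernel
  · have e : s = Equiv.ofBijective _ bij_eightB := Equiv.ext h
    rw [e]; decide +kernel

theorem alt_equiv_model : Nonempty (alternatingGroup (Fin 8) ≃* model) := by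
  let a : alternatingGroup (Fin 8) := ⟨Equiv.ofBijective _ bij_eightA,
    Equiv.Perm.mem_alternatingGroup.2 (eight_sign _ (Or.inl fun _ => rfl))⟩
  let b : alternatingGroup (Fin 8) := ⟨Equiv.ofBijective _ bij_eightB,
    Equiv.Perm.mem_alternatingGroup.2 (eight_sign _ (Or.inr fun _ => rfl))⟩
  refine equiv_closure_of_action bisObj bisObj_injective a b pA pB (fun i => (bis_images i).1)
    (fun i => (bis_images i).2) ?_
  rw [nat_card_alternatingGroup, Nat.card_fin]
  exact le_trans (by decide) le_card_model

end CfsgLib.Spor.McLInvol
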