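import Cfsg.Agent.Lib.Spor.McLInvol.Fix
import Cfsg.Agent.Lib.Spor.McLInvol.Perm
import Cfsg.Agent.Lib.Spor.HSConfig
import Cfsg.Prelude.Def_SporadicB

/-!
The centraliser of an involution in the McLaughlin group: a non-split double cover of the
alternating group of degree 8.
-/

set_option autoImplicit false
set_option maxRecDepth 100000

namespace CfsgLib.Spor.McLInvol

open Cfsg CfsgLib.Spor CfsgLib.Spor.Config CfsgLib.MathieuOut
open CfsgLib.ThreeTransp.CoReduce (bigE)
open CfsgLib.Spor.HSConfig (encL encV_eq_encL encV_inj)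
open CfsgLib.Spor.ShortPairs (v0)

/-- the chosen involution -/
noncomputable def zM : Spor.M22 := Classical.choose (exists_mCode codes_ok.1)

theorem zM_code : mCode zM = cz := Classical.choose_spec (exists_mCode codes_ok.1)

/-- the involution in the model -/
noncomputable def tInv : Co0 := mEmb zM

/-- its centraliser in the model -/
noncomputable def centT : Subgroup Co0 := hMcL ⊓ Subgroup.centralizer ({tInv} : Set Co0)

theorem mem_centT {g : Co0} : g ∈ centT ↔ g ∈ hMcL ∧ g * tInv = tInv * g := by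
  rw [centT, Subgroup.mem_inf, Subgroup.mem_centralizer_singleton_iff]

theorem tInv_facts : tInv ∈ centT ∧ tInv * tInv = 1 ∧ tInv ≠ 1 := by
  refine ⟨mem_centT.2 ⟨(mEmb_fix zM).1, rfl⟩, ?_, fun h => (z_props zM_code).2 ?_⟩
  · rw [tInv, ← map_mul, (z_props zM_code).1, map_one]
  · exact mEmb_injective (h.trans (map_one mEmb).symm)

theorem tInv_smul_fix {g : Co0} (hg : g ∈ centT) {y : leechLattice} (hy : tInv • y = y) :
    tInv • g • y = g • y := by
  rw [smul_smul, ← (mem_centT.1 hg).2, mul_smul, hy]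

theorem card_centT_le : Nat.card centT ≤ 40320 := by
  have horb : (MulAction.orbit centT q0).ncard ≤ 105 := by
    refine (Set.ncard_le_ncard ?_ (censusSet_finite _)).trans ncard_fix2025.le
    rintro _ ⟨⟨g, hg⟩, rfl⟩
    refine fix_z_census zM_code ?_ (tInv_smul_fix hg (mEmb_fix zM).2)
    rw [← orbit_q0]
    exact ⟨⟨g, (mem_centT.1 hg).1⟩, rfl⟩
  have hstab : Nat.card (MulAction.stabilizer centT q0) ≤ 384 := by
    classical
    refine le_trans ?_ (card_centralizer_le zM_code)
    have hr : ∀ g : MulAction.stabilizer centT q0, ∃ σ : Subgroup.centralizer ({zM} : Set Spor.M22),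
        mEmb σ.1 = ((g : centT) : Co0) := fun g => by
      obtain ⟨σ, hσ⟩ : ((g : centT) : Co0) ∈ mEmb.range :=
        stab_q0 ▸ ⟨(mem_centT.1 (g : centT).2).1, g.2⟩
      refine ⟨⟨σ, Subgroup.mem_centralizer_singleton_iff.2 (mEmb_injective ?_)⟩, hσ⟩
      rw [map_mul, map_mul, hσ]
      exact (mem_centT.1 (g : centT).2).2
    choose f hf using hr
    exact Nat.card_le_card_of_injective f fun a b e => Subtype.ext (Subtype.ext
      (by rw [← hf a, ← hf b, e]))
  rw [← Subgroup.card_mul_index (MulAction.stabilizer centT q0), MulAction.index_stabilizer]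
  exact (Nat.mul_le_mul hstab horb).trans (le_of_eq (by norm_num))

/-! ### The action on the 35 fixed points -/

theorem objs_ok : (objList.all fun l => decide (l.length = 24) && inLeechB l) = true ∧
    objList.Nodup ∧ objList.length = 35 := by decide +kernel

theorem objs_census : ∀ i : Fin 35,
    sqNorm (vOf (objList.getD i [])) = 32 ∧
    (([(cv, 16), (cw, 8)] ++ pairCls czPairs).all fun c =>
      decide (dotInt (Census.clsVec c.1) (vOf (objList.getD i [])) = c.2)) = true ∧
    (∀ j < 24, (objList.getD i []).getD (getP cz j) 0 = (objList.getD i []).getD j 0) := by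
  decide +kernel

theorem prog_perms : ∀ i : Fin 35,
    runN progA (encL (objList.getD i [])) = encL (objList.getD (permA.getD i 0) []) ∧
    runN progB (encL (objList.getD i [])) = encL (objList.getD (permB.getD i 0) []) := by
  decide +kernel

/-- eight times a coordinate vector, as a list -/
def eL (i : ℕ) : List ℤ := (List.range 24).map fun j => if j = i then 8 else 0

theorem prog_comm : ([progA, progB].all fun P => (List.range 24).all fun i =>
    Nat.beq (runN P (encL (eL (getP cz i))))
      (packW (fun j => coordN (runN P (encL (eL i))) (getP cz j)) 24)) = true := by decide +kernel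

theorem cz_invol : ∀ i < 24, getP cz (getP cz i) = i ∧ getP cz i < 24 := by decide +kernel

theorem fix_of_coords {y : leechLattice}
    (h : ∀ j < 24, (y : GolayPt → ℤ) (pt (getP cz j)) = (y : GolayPt → ℤ) (pt j)) :
    tInv • y = y := by
  refine Subtype.ext (funext fun p => ?_)
  rw [tInv, mEmb_coe]
  obtain ⟨j, hj, rfl⟩ : ∃ j < 24, pt j = p := ⟨idx p, idx_lt p, pt_idx p⟩
  obtain ⟨h1, h2⟩ := cz_invol j hj
  have e : (zM : Equiv.Perm GolayPt) (pt (getP cz j)) = pt j := by
    rw [getP_mCode zM_code h2, h1]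
  rw [(Equiv.symm_apply_eq _).2 e.symm, h j hj]

theorem comm_of_check {g : Co0} {P : List Stp} (hok : P.all Stp.ok = true)
    (hact : ActsAs g (runP P))
    (h : ∀ i < 24, runN P (encL (eL (getP cz i))) =
      packW (fun j => coordN (runN P (encL (eL i))) (getP cz j)) 24) : g * tInv = tInv * g := by
  refine co0_ext fun p => ?_
  obtain ⟨i, hi, rfl⟩ : ∃ i < 24, pt i = p := ⟨idx p, idx_lt p, pt_idx p⟩
  obtain ⟨h1, h2⟩ := cz_invol i hi
  have hl : ∀ k < 24, lOf ((bigE (pt k) : leechLattice) : GolayPt → ℤ) = eL k := fun k hk => by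
    refine List.map_congr_left fun j hj => ?_
    rw [bigE_coe, Pi.single_apply]
    refine if_congr ⟨fun e => ?_, fun e => by rw [e]⟩ rfl rfl
    rw [← idx_pt (List.mem_range.1 hj), e, idx_pt hk]
  have hnorm : ∀ (k : GolayPt) (g : Co0),
      sqNorm ((g • bigE k : leechLattice) : GolayPt → ℤ) ≤ 64 := fun k g => by
    rw [coe_smul_sqNorm, sqNorm_bigE]
  have hT : tInv • bigE (pt i) = bigE (pt (getP cz i)) := by
    refine Subtype.ext (funext fun q => ?_)
    rw [tInv, mEmb_coe, bigE_coe, bigE_coe, Pi.single_apply, Pi.single_apply]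
    refine if_congr ?_ rfl rfl
    rw [Equiv.symm_apply_eq, getP_mCode zM_code hi]
  rw [mul_smul, mul_smul, hT]
  refine Subtype.ext (encV_inj (small_of_sqNorm (hnorm _ g)) (small_of_sqNorm ?_) ?_)
  · rw [coe_smul_sqNorm]; exact hnorm _ g
  rw [← runN_spec hok hact (le_of_eq (sqNorm_bigE _)), encV_eq_encL, hl _ h2, h i hi]
  refine packW_congr fun j hj => ?_
  have e : (zM : Equiv.Perm GolayPt) (pt (getP cz j)) = pt j := by
    rw [getP_mCode zM_code (cz_invol j hj).2, (cz_invol j hj).1]
  rw [← hl i hi, ← encV_eq_encL, runN_spec hok hact (le_of_eq (sqNorm_bigE _)),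
    tInv, mEmb_coe, (Equiv.symm_apply_eq _).2 e.symm,
    ← coordN_encV (small_of_sqNorm (hnorm _ g)) (cz_invol j hj).2, Int.toNat_natCast]

theorem gens_hMcL : Gens hMcL [progA, progB] :=
  Gens.of_fixesB (cfg := [lOf (v0 : GolayPt → ℤ), lOf (w0 : GolayPt → ℤ)]) (by decide +kernel)
    fun _ h => ⟨MulAction.mem_stabilizer_iff.2 (h v0 (by simp)),
      MulAction.mem_stabilizer_iff.2 (h w0 (by simp))⟩

/-- The centraliser maps onto the alternating group with kernel generated by the involution. -/
theorem centT_hom : ∃ ψ : centT →* Equiv.Perm (Fin 35), ψ.range = model ∧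
    (∀ g : centT, g ∈ ψ.ker ↔ (g : Co0) = 1 ∨ (g : Co0) = tInv) ∧ Nat.card centT = 40320 := by
  classical
  have hspec : ∀ i : Fin 35, ∃ y : leechLattice, lOf (y : GolayPt → ℤ) = objList.getD i [] := by
    intro i
    have hi : (i : ℕ) < objList.length := by rw [objs_ok.2.2]; exact i.2
    rw [List.getD_eq_getElem _ _ hi]
    have h := List.all_eq_true.1 objs_ok.1 _ (List.getElem_mem hi)
    simp only [Bool.and_eq_true, decide_eq_true_eq] at h
    exact ⟨⟨vOf objList[(i : ℕ)], mem_leech_of_inLeechB (by rw [lOf_vOf h.1]; exact h.2)⟩,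
      lOf_vOf h.1⟩
  choose obj hobjl using hspec
  have hobjv : ∀ i, (obj i : GolayPt → ℤ) = vOf (objList.getD i []) := fun i => by
    rw [← hobjl i, vOf_lOf]
  have hobjn : ∀ i, sqNorm (obj i : GolayPt → ℤ) = 32 := fun i => by
    rw [hobjv]; exact (objs_census i).1
  have hobjfix : ∀ i, tInv • obj i = obj i := fun i => fix_of_coords fun j hj => by
    rw [← lOf_getD (obj i : GolayPt → ℤ) (cz_invol j hj).2, ← lOf_getD (obj i : GolayPt → ℤ) hj,
      hobjl]
    exact (objs_census i).2.2 j hj
  have hobjC : ∀ i, obj i ∈ Census.censusSet ([(cv, 16), (cw, 8)] ++ pairCls czPairs) := fun i =>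
    ⟨hobjn i, fun c hc => by
      rw [hobjv]
      exact of_decide_eq_true (List.all_eq_true.1 (objs_census i).2.1 c hc)⟩
  have hobj : Function.Injective obj := by
    intro i j h
    have e : objList.getD i [] = objList.getD j [] := by rw [← hobjl, ← hobjl, h]
    rw [List.getD_eq_getElem _ _ (by rw [objs_ok.2.2]; exact i.2),
      List.getD_eq_getElem _ _ (by rw [objs_ok.2.2]; exact j.2),
      objs_ok.2.1.getElem_inj_iff] at e
    exact Fin.ext e
  have hrange : Census.censusSet ([(cv, 16), (cw, 8)] ++ pairCls czPairs) = Set.range obj := by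
    refine (Set.eq_of_subset_of_ncard_le ?_ ?_ (censusSet_finite _)).symm
    · rintro _ ⟨i, rfl⟩; exact hobjC i
    · rw [ncard_fix275, Set.ncard_range_of_injective hobj, Nat.card_fin]
  have hcfg : ∀ i, obj i ∈ cfgSet [(v0, 16), (w0, 8)] := fun i => by
    rw [cfg_census]
    exact ⟨hobjn i, fun c hc => (hobjC i).2 c (List.mem_append_left _ hc)⟩
  have hperm : ∀ g : centT, ∀ i, ∃ j, (g : Co0) • obj i = obj j := by
    intro g i
    have hm : (g : Co0) • obj i ∈ cfgSet [(v0, 16), (w0, 8)] := by
      have := smul_mem_cfgSet (g := (g : Co0)) (hcfg i)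
      rwa [List.map_congr_left (g := id) fun q hq => by
        rw [hMcL_fix 16 8 _ (mem_centT.1 g.2).1 q hq]; rfl, List.map_id] at this
    have := fix_z_census zM_code hm (tInv_smul_fix g.2 (hobjfix i))
    rw [hrange] at this
    obtain ⟨j, hj⟩ := this
    exact ⟨j, hj.symm⟩
  choose π hπ using hperm
  have hπi : ∀ g, Function.Bijective (π g) := fun g => by
    refine Finite.injective_iff_bijective.1 fun a b e => hobj (MulAction.injective (g : Co0) ?_)
    show (g : Co0) • obj a = (g : Co0) • obj b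
    rw [hπ, hπ, e]
  let ψ : centT →* Equiv.Perm (Fin 35) := MonoidHom.mk' (fun g => Equiv.ofBijective _ (hπi g))
    fun g k => Equiv.ext fun i => hobj (by
      show obj (π (g * k) i) = obj (π g (π k i))
      rw [← hπ, ← hπ, ← hπ, Subgroup.coe_mul, mul_smul])
  obtain ⟨hokA, gA, hgA, hA⟩ := gens_hMcL.spec progA (by simp)
  obtain ⟨hokB, gB, hgB, hB⟩ := gens_hMcL.spec progB (by simp)
  have hcomm : ∀ P ∈ [progA, progB], ∀ i < 24, runN P (encL (eL (getP cz i))) =
      packW (fun j => coordN (runN P (encL (eL i))) (getP cz j)) 24 := fun P hP i hi => by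
    have h := List.all_eq_true.1 (List.all_eq_true.1 prog_comm P hP) i (List.mem_range.2 hi)
    rwa [Nat.beq_eq] at h
  have key : ∀ (g : centT) (P : List Stp) (p : Equiv.Perm (Fin 35)),
      P.all Stp.ok = true → ActsAs (g : Co0) (runP P) →
      (∀ i : Fin 35, runN P (encL (objList.getD i [])) = encL (objList.getD (p i) [])) →
      ψ g = p := by
    intro g P p hok hact hp
    refine Equiv.ext fun i => hobj ?_
    show obj (π g i) = obj (p i)
    rw [← hπ]
    refine Subtype.ext (encV_inj
      (small_of_sqNorm (le_of_eq_of_le ((coe_smul_sqNorm _ _).trans (hobjn i)) (by norm_num)))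
      (small_of_sqNorm (le_of_eq_of_le (hobjn (p i)) (by norm_num))) ?_)
    rw [← runN_spec hok hact (le_of_eq_of_le (hobjn i) (by norm_num)), encV_eq_encL, encV_eq_encL,
      hobjl, hobjl]
    exact hp i
  let cA : centT := ⟨gA, mem_centT.2 ⟨hgA, comm_of_check hokA hA (hcomm _ (by simp))⟩⟩
  let cB : centT := ⟨gB, mem_centT.2 ⟨hgB, comm_of_check hokB hB (hcomm _ (by simp))⟩⟩
  have hle : model ≤ ψ.range := by
    rw [Subgroup.closure_le]
    rintro p (rfl | rfl)
    · exact ⟨cA, key cA progA pA hokA hA fun i => by rw [pA_val]; exact (prog_perms i).1⟩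
    · exact ⟨cB, key cB progB pB hokB hB fun i => by rw [pB_val]; exact (prog_perms i).2⟩
  let t : centT := ⟨tInv, tInv_facts.1⟩
  have ht : t ∈ ψ.ker := MonoidHom.mem_ker.2 (Equiv.ext fun i => hobj (by
    show obj (π t i) = obj i
    rw [← hπ]; exact hobjfix i))
  have ht1 : t ≠ 1 := fun h => tInv_facts.2.2 (congrArg Subtype.val h)
  have hmul : Nat.card centT = Nat.card ψ.ker * Nat.card ψ.range := by
    rw [← Subgroup.index_ker]; exact (Subgroup.card_mul_index _).symm
  haveI : Finite centT := inferInstance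
  have h2 : 2 ≤ Nat.card ψ.ker := by
    rw [← Nat.lt_iff_add_one_le, Finite.one_lt_card_iff_nontrivial]
    exact ⟨⟨t, ht⟩, 1, fun h => ht1 (congrArg Subtype.val h)⟩
  have h3 := le_card_model
  have h4 := Subgroup.card_le_of_le hle
  have h5 := card_centT_le
  have hk : Nat.card ψ.ker = 2 := by nlinarith
  have hr : Nat.card ψ.range = 20160 := by nlinarith
  refine ⟨ψ, (Subgroup.eq_of_le_of_card_ge hle (by omega)).symm, fun g => ⟨fun hg => ?_, ?_⟩,
    by rw [hmul, hk, hr]⟩
  · by_contra hne
    push Not at hne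
    have h3' : ({⟨g, hg⟩, ⟨t, ht⟩, 1} : Finset ψ.ker).card = 3 := by
      rw [Finset.card_insert_of_notMem, Finset.card_pair]
      · exact fun e => ht1 (congrArg Subtype.val e)
      · simp only [Finset.mem_insert, Finset.mem_singleton, not_or]
        exact ⟨fun e => hne.2 (congrArg (fun x : ψ.ker => ((x : centT) : Co0)) e),
          fun e => hne.1 (congrArg (fun x : ψ.ker => ((x : centT) : Co0)) e)⟩
    haveI := Fintype.ofFinite ψ.ker
    have h6 := Finset.card_le_univ ({⟨g, hg⟩, ⟨t, ht⟩, 1} : Finset ψ.ker)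
    rw [h3', ← Nat.card_eq_fintype_card, hk] at h6
    omega
  · rintro (h | h)
    · rw [show g = 1 from Subtype.ext h]; exact one_mem _
    · rw [show g = t from Subtype.ext h]; exact ht

theorem isNonsplit_centT : Cfsg.IsNonsplitDoubleCover centT (alternatingGroup (Fin 8)) := by
  classical
  obtain ⟨ψ, hr, hker, -⟩ := centT_hom
  obtain ⟨e8⟩ := alt_equiv_model
  haveI : IsSimpleGroup (alternatingGroup (Fin 8)) :=
    alternatingGroup.isSimpleGroup (by rw [Nat.card_fin]; norm_num)
  have hq : Nonempty (centT ⧸ ψ.ker ≃* alternatingGroup (Fin 8)) :=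
    ⟨(QuotientGroup.quotientKerEquivRange ψ).trans ((MulEquiv.subgroupCongr hr).trans e8.symm)⟩
  obtain ⟨q⟩ := hq
  let f : centT →* alternatingGroup (Fin 8) := q.toMonoidHom.comp (QuotientGroup.mk' ψ.ker)
  have hf : Function.Surjective f := q.surjective.comp (QuotientGroup.mk'_surjective _)
  have hcen : Subgroup.center centT = ψ.ker := by
    refine le_antisymm (fun g hg => ?_) fun g hg => ?_
    · have h1 : f g ∈ Subgroup.center (alternatingGroup (Fin 8)) :=
        Subgroup.mem_center_iff.2 fun y => by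
          obtain ⟨x, rfl⟩ := hf y
          rw [← map_mul, ← map_mul, Subgroup.mem_center_iff.1 hg x]
      rw [alternatingGroup.center_eq_bot (by rw [Nat.card_fin]; norm_num), Subgroup.mem_bot] at h1
      exact (QuotientGroup.eq_one_iff g).1 (q.injective (h1.trans (map_one q).symm))
    · refine Subgroup.mem_center_iff.2 fun x => Subtype.ext ?_
      rcases (hker g).1 hg with h | h <;> simp only [Subgroup.coe_mul, h, mul_one, one_mul]
      exact (mem_centT.1 x.2).2
  have hk2 : Nat.card ψ.ker = 2 := by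
    have e : (ψ.ker : Set centT) = {1, ⟨tInv, tInv_facts.1⟩} := by
      ext g
      rw [SetLike.mem_coe, hker]
      rw [Set.mem_insert_iff, Set.mem_singleton_iff]
      exact or_congr ⟨fun h => Subtype.ext h, congrArg Subtype.val⟩
        ⟨fun h => Subtype.ext h, congrArg Subtype.val⟩
    rw [← SetLike.coe_sort_coe, e, Nat.card_coe_set_eq, Set.ncard_pair]
    exact fun h => tInv_facts.2.2 (congrArg Subtype.val h).symm
  refine ⟨by rw [hcen, hk2], ⟨(QuotientGroup.quotientMulEquivOfEq hcen).trans q⟩, fun L hL => ?_⟩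
  obtain ⟨s, hs⟩ := exists_root zM_code
  have hsC : mEmb s ∈ centT := mem_centT.2 ⟨(mEmb_fix s).1, by
    rw [tInv, ← map_mul, ← map_mul, ← hs, mul_assoc]⟩
  obtain ⟨⟨⟨a, ha⟩, ⟨b, hb⟩⟩, hab⟩ := hL.2 ⟨mEmb s, hsC⟩
  simp only at hab
  have ha' := (hker a).1 (hcen ▸ ha)
  have ha2 : a * a = 1 := Subtype.ext (by
    rcases ha' with h | h <;> rw [Subgroup.coe_mul, h]
    · exact mul_one _
    · exact tInv_facts.2.1)
  have htL : (⟨tInv, tInv_facts.1⟩ : centT) ∈ L := by
    have hc : b * a = a * b := Subgroup.mem_center_iff.1 ha b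
    have e : (⟨tInv, tInv_facts.1⟩ : centT) = b * b := by
      have e1 : (⟨tInv, tInv_facts.1⟩ : centT) = (a * b) * (a * b) := by
        rw [hab]; exact Subtype.ext (show mEmb zM = mEmb s * mEmb s by rw [← map_mul, hs])
      rw [e1, mul_assoc, ← mul_assoc b, hc, mul_assoc, ← mul_assoc a a, ha2, one_mul]
    rw [e]; exact L.mul_mem hb hb
  have htZ : (⟨tInv, tInv_facts.1⟩ : centT) ∈ Subgroup.center centT := by
    rw [hcen]; exact (hker _).2 (Or.inr rfl)
  have := Subgroup.disjoint_def.1 hL.disjoint htZ htL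
  exact tInv_facts.2.2 (congrArg Subtype.val this)

end CfsgLib.Spor.McLInvol
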