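import Cfsg.Agent.Lib.Spor.McLInvol.M22
import Cfsg.Agent.Lib.Spor.CentralFree
import Cfsg.Agent.Lib.Spor.McLConfig
import Cfsg.Agent.Lib.Spor.ConwaySimple
import Cfsg.Agent.Lib.Spor.Co0CensusParts

/-!
`M22` as the stabiliser of a point of the 2025 in the McLaughlin group.
-/

set_option autoImplicit false
set_option maxRecDepth 100000

namespace CfsgLib.Spor.McLInvol

open Cfsg CfsgLib.Spor CfsgLib.Spor.Config CfsgLib.MathieuOut
open CfsgLib.ThreeTransp.CoReduce (bigE)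
open CfsgLib.Spor.McLConfig (mkV)
open CfsgLib.Spor.ShortPairs (v0)
open CfsgLib.Spor.CentralFree (permEl_coe permEl_injective)

/-- the second vector of the pair -/
def w0 : leechLattice := mkV [-3, 1, 1, 1, 1, 1, 1, 1, 1, 1, 1, 1, 1, 1, 1, 1, 1, 1, 1, 1, 1, 1, 1, 1]
  (by decide +kernel)

/-- the point of the 2025 fixed by `M22` -/
def q0 : leechLattice := mkV [-4, 0, 0, 0, 0, 0, 0, 0, 0, 0, 0, 0, 0, 0, 0, 0, 0, 0, 0, 0, 0, 0, 0, 4]
  (by decide +kernel)

theorem w0_facts : sqNorm (w0 : GolayPt → ℤ) = 32 ∧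
    dotInt (v0 : GolayPt → ℤ) (w0 : GolayPt → ℤ) = -8 := by decide +kernel

theorem q0_mem : q0 ∈ cfgSet [(v0, 0), (w0, 16)] :=
  mem_cfgSet_two.2 ⟨by decide +kernel, by decide +kernel, by decide +kernel⟩

/-- the model of the McLaughlin group -/
abbrev hMcL : Subgroup Co0 := MulAction.stabilizer Co0 v0 ⊓ MulAction.stabilizer Co0 w0

theorem hMcL_map : ∃ g : Co0, g • v0 = v0 ∧ g • w0 = McLConfig.ce :=
  McLConfig.exists_std McLConfig.norm_v0 w0_facts.1 w0_facts.2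

theorem map_stab_conj {g : Co0} {a b a' b' : leechLattice} (ha : g • a = a') (hb : g • b = b') :
    (MulAction.stabilizer Co0 a ⊓ MulAction.stabilizer Co0 b).map (MulAut.conj g).toMonoidHom =
      MulAction.stabilizer Co0 a' ⊓ MulAction.stabilizer Co0 b' := by
  rw [Subgroup.map_inf _ _ _ (MulAut.conj g).injective, ← ha, ← hb,
    MulAction.stabilizer_smul_eq_stabilizer_map_conj,
    MulAction.stabilizer_smul_eq_stabilizer_map_conj]

theorem card_hMcL : Nat.card hMcL = 898128000 := by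
  obtain ⟨g, h1, h2⟩ := hMcL_map
  rw [← ConwaySimple.natCard_mclStd]
  show _ = Nat.card ↥(MulAction.stabilizer Co0 v0 ⊓ MulAction.stabilizer Co0 McLConfig.ce)
  rw [← map_stab_conj h1 h2]
  exact (Subgroup.card_map_of_injective (MulAut.conj g).injective).symm

theorem hMcL_fix (a b : ℤ) : ∀ g ∈ hMcL, ∀ q ∈ [(v0, a), (w0, b)], g • q.1 = q.1 := by
  rintro g ⟨h1, h2⟩ q hq
  simp only [List.mem_cons, List.not_mem_nil, or_false] at hq
  rcases hq with rfl | rfl <;> [exact h1; exact h2]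

theorem orbit_q0 : MulAction.orbit hMcL q0 = cfgSet [(v0, 0), (w0, 16)] := by
  refine le_antisymm (orbit_subset (hMcL_fix 0 16) q0_mem) fun y hy => ?_
  obtain ⟨a, a1, a2, a3⟩ := McLConfig.exists_std_2025 McLConfig.norm_v0 w0_facts.1 w0_facts.2 hy
  obtain ⟨b, b1, b2, b3⟩ := McLConfig.exists_std_2025 McLConfig.norm_v0 w0_facts.1 w0_facts.2 q0_mem
  exact ⟨⟨a⁻¹ * b, smul_eq_of_eq b1 a1, smul_eq_of_eq b2 a2⟩, smul_eq_of_eq b3 a3⟩

theorem ncard_orbit_q0 : (MulAction.orbit hMcL q0).ncard = 2025 := by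
  obtain ⟨g, h1, h2⟩ := hMcL_map
  rw [orbit_q0, ← ncard_cfgSet_smul g, List.map_cons, List.map_cons, List.map_nil, h1, h2,
    McLConfig.ncard_2025]

/-- `M22` by permutations of the coordinates -/
noncomputable def mEmb : Spor.M22 →* Co0 :=
  MonoidHom.mk' (fun σ => permEl ⟨σ, σ.2.1.1⟩) fun σ τ => permEl_mul ⟨σ, σ.2.1.1⟩ ⟨τ, τ.2.1.1⟩

theorem mEmb_injective : Function.Injective mEmb := fun σ τ h =>
  Subtype.ext (congrArg (fun x : M24 => (x : Equiv.Perm GolayPt)) (permEl_injective h))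

theorem mEmb_coe (σ : Spor.M22) (v : leechLattice) (p : GolayPt) :
    ((mEmb σ • v : leechLattice) : GolayPt → ℤ) p =
      (v : GolayPt → ℤ) ((σ : Equiv.Perm GolayPt).symm p) := permEl_coe _ v p

theorem mEmb_smul_eq {σ : Spor.M22} {v : leechLattice} {a b c : ℤ}
    (h : ∀ p, (v : GolayPt → ℤ) p = if p = pt 0 then a else if p = pt 23 then b else c) :
    mEmb σ • v = v := by
  have hσ : (σ : Equiv.Perm GolayPt) ∈ stabG [] [23, 0] := by rw [stabG_M22]; exact σ.2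
  have h0 : (σ : Equiv.Perm GolayPt) (pt 0) = pt 0 := hσ.2.2 0 (by simp)
  have h23 : (σ : Equiv.Perm GolayPt) (pt 23) = pt 23 := hσ.2.2 23 (by simp)
  refine Subtype.ext (funext fun p => ?_)
  rw [mEmb_coe, h, h]
  simp only [Equiv.symm_apply_eq, h0, h23]

theorem mEmb_fix (σ : Spor.M22) : mEmb σ ∈ hMcL ∧ mEmb σ • q0 = q0 :=
  ⟨⟨mEmb_smul_eq (a := 4) (b := 4) (c := 0) (by decide +kernel),
    mEmb_smul_eq (a := -3) (b := 1) (c := 1) (by decide +kernel)⟩,
    mEmb_smul_eq (a := -4) (b := 4) (c := 0) (by decide +kernel)⟩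

theorem stab_q0 : hMcL ⊓ MulAction.stabilizer Co0 q0 = mEmb.range := by
  refine (Subgroup.eq_of_le_of_card_ge ?_ ?_).symm
  · rintro _ ⟨σ, rfl⟩; exact ⟨(mEmb_fix σ).1, (mEmb_fix σ).2⟩
  · have h1 := Subgroup.card_mul_index (MulAction.stabilizer hMcL q0)
    rw [MulAction.index_stabilizer, ncard_orbit_q0, card_hMcL] at h1
    have h2 : Nat.card (MulAction.stabilizer hMcL q0) =
        Nat.card ↥(hMcL ⊓ MulAction.stabilizer Co0 q0) :=
      Nat.card_congr ⟨fun g => ⟨g.1.1, g.1.2, g.2⟩, fun g => ⟨⟨g.1, g.2.1⟩, g.2.2⟩,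
        fun _ => rfl, fun _ => rfl⟩
    rw [show Nat.card mEmb.range = 443520 by
      rw [← Nat.card_congr (MonoidHom.ofInjective mEmb_injective).toEquiv, natCard_M22]]
    omega

theorem fix_pair {σ : Spor.M22} {v : leechLattice} (h : mEmb σ • v = v) {i : ℕ} (hi : i < 24) :
    (v : GolayPt → ℤ) (pt (getP (mCode σ) i)) = (v : GolayPt → ℤ) (pt i) := by
  have := mEmb_coe σ v ((σ : Equiv.Perm GolayPt) (pt i))
  rw [h, Equiv.symm_apply_apply, getP_mCode rfl hi] at this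
  exact this

/-- equality of two coordinates, as census conditions -/
def pairCls (l : List (ℕ × ℕ)) : List (Census.Cls × ℤ) :=
  l.map fun q => ([(1, 1 <<< q.1), (-1, 1 <<< q.2)], 0)

theorem pairCls_holds {l : List (ℕ × ℕ)} (hl : ∀ q ∈ l, q.1 < 24 ∧ q.2 < 24) {v : leechLattice}
    (h : ∀ q ∈ l, (v : GolayPt → ℤ) (pt q.1) = (v : GolayPt → ℤ) (pt q.2)) :
    ∀ c ∈ pairCls l, dotInt (Census.clsVec c.1) (v : GolayPt → ℤ) = c.2 := by
  intro c hc
  obtain ⟨q, hq, rfl⟩ := List.mem_map.1 hc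
  obtain ⟨h1, h2⟩ := hl q hq
  have key : ∀ k < 24, ∀ p : GolayPt, (1 <<< k).testBit (idx p) = true ↔ p = pt k := fun k hk p => by
    rw [Nat.one_shiftLeft, Nat.testBit_two_pow]
    simp only [decide_eq_true_eq]
    exact ⟨fun e => by rw [e, pt_idx], fun e => by rw [e, idx_pt hk]⟩
  rw [Census.dotInt_clsVec]
  simp only [List.map_cons, List.map_nil, List.sum_cons, List.sum_nil]
  rw [show toSet (1 <<< q.1) = {pt q.1} from Finset.ext fun p => by
      rw [mem_toSet, key _ h1, Finset.mem_singleton],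
    show toSet (1 <<< q.2) = {pt q.2} from Finset.ext fun p => by
      rw [mem_toSet, key _ h2, Finset.mem_singleton]]
  simp [h q hq]

end CfsgLib.Spor.McLInvol
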