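import Cfsg.Agent.Lib.Spor.McLInvol.Embed

/-!
Fixed points of an involution and of a Sylow subgroup in the two point sets.
-/

set_option autoImplicit false
set_option maxRecDepth 100000

namespace CfsgLib.Spor.McLInvol

open Cfsg CfsgLib.Spor CfsgLib.Spor.Config CfsgLib.MathieuOut
open CfsgLib.Spor.ShortPairs (v0)

/-- the first vector of the pair, as a census class -/
def cv : Census.Cls := [(4, 8388609)]

/-- the second vector of the pair, as a census class -/
def cw : Census.Cls := [(-3, 1), (1, 16777214)]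

theorem cfg_census (a b : ℤ) : cfgSet [(v0, a), (w0, b)] = Census.censusSet [(cv, a), (cw, b)] :=
  cfgSet_eq_censusSet (by
    have h : lOf (v0 : GolayPt → ℤ) = lOf (Census.clsVec cv) ∧
        lOf (w0 : GolayPt → ℤ) = lOf (Census.clsVec cw) := by decide +kernel
    simp [h.1, h.2])

theorem mem_census_append {C D : List (Census.Cls × ℤ)} {y : leechLattice}
    (h : y ∈ Census.censusSet C)
    (h' : ∀ c ∈ D, dotInt (Census.clsVec c.1) (y : GolayPt → ℤ) = c.2) :
    y ∈ Census.censusSet (C ++ D) :=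
  ⟨h.1, fun c hc => (List.mem_append.1 hc).elim (h.2 c) (h' c)⟩

theorem pairs_facts : (∀ q ∈ czPairs, q.1 < 24 ∧ q.2 < 24) ∧ (∀ q ∈ sylPairs, q.1 < 24 ∧ q.2 < 24) ∧
    (czPairs.all fun q => Nat.beq (getP cz q.1) q.2) = true ∧
    (sylPairs.all fun q => sylEls.any fun e => Nat.beq (getP e q.1) q.2) = true := by decide +kernel

theorem fix_z_census {z : Spor.M22} (hz : mCode z = cz) {y : leechLattice} {a b : ℤ}
    (hy : y ∈ cfgSet [(v0, a), (w0, b)]) (h : mEmb z • y = y) :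
    y ∈ Census.censusSet ([(cv, a), (cw, b)] ++ pairCls czPairs) := by
  refine mem_census_append (cfg_census a b ▸ hy) (pairCls_holds pairs_facts.1 fun q hq => ?_)
  have hg := List.all_eq_true.1 pairs_facts.2.2.1 q hq
  rw [Nat.beq_eq] at hg
  rw [← hg, ← hz, fix_pair h (pairs_facts.1 q hq).1]

theorem fix_syl_census {y : leechLattice} (hy : y ∈ cfgSet [(v0, 0), (w0, 16)])
    (h : ∀ σ ∈ sylM, mEmb σ • y = y) :
    y ∈ Census.censusSet ([(cv, 0), (cw, 16)] ++ pairCls sylPairs) := by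
  refine mem_census_append (cfg_census 0 16 ▸ hy) (pairCls_holds pairs_facts.2.1 fun q hq => ?_)
  have hg := List.all_eq_true.1 pairs_facts.2.2.2 q hq
  rw [List.any_eq_true] at hg
  obtain ⟨e, he, hg⟩ := hg
  rw [Nat.beq_eq] at hg
  obtain ⟨σ, rfl⟩ := exists_mCode (List.all_eq_true.1 codes_ok.2.2.1 _ he)
  rw [← hg, fix_pair (h σ (mem_sylM.2 he)) (pairs_facts.2.1 q hq).1]

theorem ncard_fix2025 :
    (Census.censusSet ([(cv, 0), (cw, 16)] ++ pairCls czPairs)).ncard = 105 := by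
  rw [Census.ncard_censusSet]
  rw [Census.count_of_parts (a := 1) (B := [8, 5, 3, 0, 6, 20, 8, 6])
    (D := [15, 3, 12, 6, 3, 3, 6, 0]) (by decide +kernel) ?_ ?_]
  · rfl
  · refine ⟨?_, ?_, ?_, ?_, ?_, ?_, ?_, ?_, Census.Parts.nil ?_⟩ <;>
      decide +kernel
  · refine ⟨?_, ?_, ?_, ?_, ?_, ?_, ?_, ?_, Census.Parts.nil ?_⟩ <;>
      decide +kernel

theorem ncard_fix275 :
    (Census.censusSet ([(cv, 16), (cw, 8)] ++ pairCls czPairs)).ncard = 35 := by
  rw [Census.ncard_censusSet]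
  rw [Census.count_of_parts (a := 6) (B := [0, 0, 0, 0, 0, 6, 4, 3])
    (D := [4, 2, 5, 1, 2, 0, 1, 1]) (by decide +kernel) ?_ ?_]
  · rfl
  · refine ⟨?_, ?_, ?_, ?_, ?_, ?_, ?_, ?_, Census.Parts.nil ?_⟩ <;>
      decide +kernel
  · refine ⟨?_, ?_, ?_, ?_, ?_, ?_, ?_, ?_, Census.Parts.nil ?_⟩ <;>
      decide +kernel

theorem ncard_fixSyl :
    (Census.censusSet ([(cv, 0), (cw, 16)] ++ pairCls sylPairs)).ncard = 1 := by
  rw [Census.ncard_censusSet]
  rw [Census.count_of_parts (a := 1) (B := [0, 0, 0, 0, 0, 0, 0, 0])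
    (D := [0, 0, 0, 0, 0, 0, 0, 0]) (by decide +kernel) ?_ ?_]
  · rfl
  · refine ⟨?_, ?_, ?_, ?_, ?_, ?_, ?_, ?_, Census.Parts.nil ?_⟩ <;>
      decide +kernel
  · refine ⟨?_, ?_, ?_, ?_, ?_, ?_, ?_, ?_, Census.Parts.nil ?_⟩ <;>
      decide +kernel

theorem censusSet_finite (C : List (Census.Cls × ℤ)) : (Census.censusSet C).Finite :=
  (finite_normSet 32).subset fun _ h => h.1

theorem eq_q0_of_syl_fix {y : leechLattice} (hy : y ∈ cfgSet [(v0, 0), (w0, 16)])
    (h : ∀ σ ∈ sylM, mEmb σ • y = y) : y = q0 :=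
  ((Set.ncard_le_one_iff (censusSet_finite _)).1 ncard_fixSyl.le) (fix_syl_census hy h)
    (fix_syl_census q0_mem fun σ _ => (mEmb_fix σ).2)

end CfsgLib.Spor.McLInvol
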