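import Cfsg.Agent.Lib.Spor.McLInvol.Main
import Cfsg.Agent.Lib.Fusion.GroupClimb
import Cfsg.Agent.Lib.Fusion.GroupIso

/-!
The fusion system of the McLaughlin group at the prime two is simple.
-/

set_option autoImplicit false
set_option maxRecDepth 100000

namespace CfsgLib.Spor.McLInvol

open Cfsg Cfsg.FusionSystem CfsgLib.Fusion
open CfsgLib.Spor CfsgLib.Spor.Config
open CfsgLib.Spor.ShortPairs (v0)

theorem sylInv_sq {σ : Spor.M22} (h : mCode σ ∈ sylInv) : σ * σ = 1 := by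
  have hchk : (sylInv.all fun i => Nat.beq (compP i i) (packL (List.range 24))) = true := by
    decide +kernel
  refine mCode_inj ?_
  have := List.all_eq_true.1 hchk _ h
  rw [Nat.beq_eq] at this
  rw [← compP_mCode, this, mCode_one]

theorem normalizer_sylH {g : hMcL}
    (hg : g ∈ Subgroup.normalizer ((sylH : Subgroup hMcL) : Set hMcL)) :
    g ∈ (sylH : Subgroup hMcL) := by
  classical
  rw [sylH_coe] at hg ⊢
  have hgq : (g : Co0) • q0 = q0 := by
    refine eq_q0_of_syl_fix (by rw [← orbit_q0]; exact ⟨g, rfl⟩) fun σ hσ => ?_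
    have h1 : g⁻¹ * mEmbH σ * g ∈ sylM.map mEmbH := by
      rw [Subgroup.mem_normalizer_iff.1 hg, mul_assoc, mul_assoc, mul_inv_cancel, mul_one,
        mul_inv_cancel_left]
      exact ⟨σ, hσ, rfl⟩
    obtain ⟨τ, -, hτ⟩ := h1
    have e : mEmb σ * (g : Co0) = (g : Co0) * mEmb τ := by
      have := congrArg Subtype.val (show mEmbH σ * g = g * mEmbH τ by rw [hτ]; group)
      exact this
    rw [smul_smul, e, mul_smul, (mEmb_fix τ).2]
  obtain ⟨γ, hγ⟩ : (g : Co0) ∈ mEmb.range := stab_q0 ▸ ⟨g.2, hgq⟩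
  have hgγ : g = mEmbH γ := Subtype.ext hγ.symm
  subst hgγ
  refine Subgroup.mem_map_of_mem _ ?_
  have hN : ∀ σ ∈ sylM, γ * σ * γ⁻¹ ∈ sylM := fun σ hσ => by
    obtain ⟨τ, hτ, e⟩ := (Subgroup.mem_normalizer_iff.1 hg (mEmbH σ)).1 ⟨σ, hσ, rfl⟩
    rw [← map_inv, ← map_mul, ← map_mul] at e
    rwa [← mEmbH_injective e]
  obtain ⟨hzS, hzc⟩ := mem_sylM_z zM_code
  have hγN : γ ∈ Subgroup.normalizer (sylM : Set Spor.M22) :=
    Subgroup.mem_normalizer_fintype hN
  have hγz : γ * zM = zM * γ := by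
    have hc : ∀ τ ∈ sylM, (γ * zM * γ⁻¹) * τ = τ * (γ * zM * γ⁻¹) := fun τ hτ => by
      have hτ' : γ⁻¹ * τ * γ ∈ sylM := by
        rw [Subgroup.mem_normalizer_iff.1 hγN]
        simpa [mul_assoc] using hτ
      have := hzc _ hτ'
      calc γ * zM * γ⁻¹ * τ = γ * (zM * (γ⁻¹ * τ * γ)) * γ⁻¹ := by group
        _ = γ * (γ⁻¹ * τ * γ * zM) * γ⁻¹ := by rw [this]
        _ = τ * (γ * zM * γ⁻¹) := by group
    rcases center_sylM zM_code (hN _ hzS) hc with h | h
    · exact absurd (conj_eq_one_iff.1 h) (z_props zM_code).2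
    · exact mul_inv_eq_iff_eq_mul.1 h
  set C := Subgroup.centralizer ({zM} : Set Spor.M22)
  set N := C ⊓ Subgroup.normalizer (sylM : Set Spor.M22)
  have hγ' : γ ∈ N := ⟨Subgroup.mem_centralizer_singleton_iff.2 hγz, hγN⟩
  have hSN : sylM ≤ N := fun σ hσ =>
    ⟨Subgroup.mem_centralizer_singleton_iff.2 (hzc σ hσ), Subgroup.le_normalizer hσ⟩
  have h1 := Subgroup.card_dvd_of_le hSN
  have h2 := Subgroup.card_dvd_of_le (inf_le_left : N ≤ C)
  have h3 := card_centralizer_le zM_code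
  rw [card_sylM] at h1
  have hne : N ≠ C := fun e => by
    obtain ⟨m, s, hm, hs, hout⟩ := exists_move zM_code
    have hmN : m ∈ N := e ▸ Subgroup.mem_centralizer_singleton_iff.2 hm
    exact hout ((Subgroup.mem_normalizer_iff.1 hmN.2 s).1 hs)
  have hlt : Nat.card N ≠ Nat.card C := fun e =>
    hne (Subgroup.eq_of_le_of_card_ge inf_le_left e.ge)
  have h4 : Nat.card N = 128 := by
    obtain ⟨a, ha⟩ := h1
    obtain ⟨b, hb⟩ := h2
    have hpos : 0 < Nat.card N := Nat.card_pos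
    have hb2 : 2 ≤ b := by
      rcases b with _ | _ | b
      · rw [mul_zero] at hb; exact absurd hb (Nat.card_pos (α := C)).ne'
      · rw [zero_add, mul_one] at hb; exact absurd hb.symm hlt
      · omega
    have : Nat.card N * 2 ≤ 384 := le_trans (Nat.mul_le_mul le_rfl hb2) (hb ▸ h3)
    omega
  rw [Subgroup.eq_of_le_of_card_ge hSN (by rw [h4, card_sylM])]
  exact hγ'

theorem fusion_simple_model : (groupFusionSystem (sylH : Subgroup hMcL)).IsSimple 2 := by
  haveI : Fact (Nat.Prime 2) := ⟨Nat.prime_two⟩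
  refine groupFusion_isSimple_of_climb sylH ?_ ?_ ?_
  · intro h
    have := card_sylH
    rw [← sylH_coe, h, Subgroup.card_bot] at this
    omega
  · rintro T ⟨hTS, hT⟩ hne
    have hp2 : IsPGroup 2 T := sylH.2.to_le hTS
    obtain ⟨y, hy⟩ : ∃ y : T, orderOf y = 2 := by
      refine exists_prime_orderOf_dvd_card' 2 ?_
      obtain ⟨k, hk⟩ := IsPGroup.iff_card.1 hp2
      rcases Nat.eq_zero_or_pos k with rfl | hk0
      · exact absurd (Subgroup.card_eq_one.1 (by rw [hk, pow_zero])) hne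
      · rw [hk]; exact dvd_pow_self 2 (by omega)
    have hinv : ∀ x ∈ (sylH : Subgroup hMcL), orderOf x = 2 → x ∈ T := by
      intro x hx hx2
      obtain ⟨g, hg⟩ := isConj_iff.1 ((isConj_tH (y := (y : hMcL))
        (by rw [Subgroup.orderOf_coe, hy])).symm.trans (isConj_tH hx2))
      have hX : Subgroup.zpowers (y : hMcL) ≤ T := Subgroup.zpowers_le.2 y.2
      obtain ⟨φ, hφ, hφe⟩ := id (isMor_group.mpr ⟨hX.trans hTS, (by
          rintro _ ⟨i, rfl⟩
          show g * (y : hMcL) ^ i * g⁻¹ ∈ (sylH : Subgroup hMcL)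
          rw [← conj_zpow, hg]
          exact Subgroup.zpow_mem _ hx i), g, fun _ _ => rfl⟩ :
        IsMor (groupFusionSystem (sylH : Subgroup hMcL)) (Subgroup.zpowers (y : hMcL)) (cj g))
      have := hT _ hX φ hφ ⟨_, Subgroup.mem_zpowers _⟩
      rw [hφe] at this
      rwa [cj_apply, hg] at this
    intro x hx
    rw [sylH_coe] at hx
    obtain ⟨σ, hσ, rfl⟩ := hx
    refine (Subgroup.closure_le (K := T.comap mEmbH)).2 (fun τ hτ => ?_) hσ
    have hτS : τ ∈ sylM := Subgroup.subset_closure hτ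
    rcases eq_or_ne τ 1 with rfl | hne1
    · exact one_mem _
    refine hinv _ ⟨τ, hτS, rfl⟩ ?_
    have hsq : τ * τ = 1 := sylInv_sq hτ
    exact orderOf_eq_prime (by rw [pow_two, ← map_mul, hsq, map_one])
      fun e => hne1 (mEmbH_injective (e.trans (map_one mEmbH).symm))
  · intro E hEs hsub hinv hp g hg
    exact isMor_cj E le_rfl (normalizer_sylH hg)

theorem fusion_simple {G : Type*} [Group G] [Finite G] (hG : Cfsg.Spor.IsoMcL G) (S : Sylow 2 G) :
    (groupFusionSystem (S : Subgroup G)).IsSimple 2 := by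
  haveI : Fact (Nat.Prime 2) := ⟨Nat.prime_two⟩
  obtain ⟨e⟩ := hG
  obtain ⟨k⟩ := equiv_mcl
  exact groupFusion_isSimple_of_equiv (k.trans e.symm) sylH S fusion_simple_model

end CfsgLib.Spor.McLInvol
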